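import Cfsg.Agent.H732.VZ.Div
import Cfsg.Agent.H730.OZ.Defs
import Cfsg.Agent.S0165
import Cfsg.Agent.S0135

/-!
# One vanishing class: the elementary tools (helper604, for the sporadic rows of S4842)

`h : One χ x` (helper732): the irreducible character `χ` vanishes exactly on the class of `x`.
With `c = |C(x)|`, `d = χ(1)`, `N = |G|`:

* `row_of`     : a group without such a character satisfies `Row`;
* `deg_dvd`    : `d ∣ N` (T1);     `one_lt_deg` : `1 < d`;   `ne_one` : `x ≠ 1`;
* `cent_mul_le`: `c (d² - 1) ≤ N` (T2), `cent_mul_sq_le` : `c d² ≤ N + c`;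
* `conj_of_singular` : `|G|_r ∣ d`, `r ∣ |g|`: `g` is conjugate to `x` (T3);
* `not_dvd_deg` : two `r`-singular elements of different orders, or not conjugate: `|G|_r ∤ d`;
* `cent_prime` : `c` prime: `c² ∤ N`;  `four_le_cent` : `4 ∣ N`, `9 ∣ N`: `4 ≤ c` (C0).
-/

set_option autoImplicit false

open Cfsg Cfsg.Agent.Characters Cfsg.Agent.H686.CharKit Cfsg.Agent.H732.VZ

namespace Cfsg.Agent.H604.OZ

universe u

variable {G : Type u} [Group G]

/-- The order of the centralizer. -/
noncomputable abbrev cent (x : G) : ℕ := Nat.card (Subgroup.centralizer ({x} : Set G))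

/-- A group without irreducible character vanishing on exactly one class satisfies the row. -/
theorem row_of [Finite G] (H : ∀ (χ : IrrCharacter G) (x : G), One χ x → False) : H730.OZ.Row G := by
  rintro χ hχ ⟨x, hx, hu⟩
  exact (H ⟨χ, hχ⟩ x ⟨hx, hu⟩).elim

variable [Finite G] {χ : IrrCharacter G} {x : G}

/-- **T1.** -/
theorem deg_dvd (χ : IrrCharacter G) : charDegree (χ : G → ℂ) ∣ Nat.card G := by
  obtain ⟨n, ρ, hρ, hχ⟩ := χ.2
  have h3 := charDegree_irr χ
  rw [← hχ, Representation.char_one] at h3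
  have h4 : charDegree (χ : G → ℂ) = Module.finrank ℂ (Fin n → ℂ) := by
    rw [← hχ]; exact_mod_cast h3
  rw [h4]
  have := hρ
  exact Cfsg.Agent.S0135.result ρ

theorem deg_pos (χ : IrrCharacter G) : 0 < charDegree (χ : G → ℂ) := charDegree_pos χ

theorem ne_one (h : One χ x) : x ≠ 1 := by
  rintro rfl
  have h1 := h.zero
  rw [← charDegree_irr χ] at h1
  have := charDegree_pos χ
  have h2 : charDegree (χ : G → ℂ) = 0 := by exact_mod_cast h1
  omega

/-- **T2.** -/
theorem cent_mul_sq_le (h : One χ x) :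
    cent x * charDegree (χ : G → ℂ) ^ 2 ≤ Nat.card G + cent x := by
  classical
  have := Fintype.ofFinite G
  have h1 := excess χ (Y := {1}) (fun g hg k _ => by
      rw [Finset.mem_singleton] at hg ⊢
      rw [hg, one_pow]) (fun g hg => by
      rw [Finset.mem_singleton] at hg
      rw [hg, ← charDegree_irr χ]
      have := charDegree_pos χ
      exact_mod_cast this.ne') (r := charDegree (χ : G → ℂ)) (charDegree_pos χ) (fun g hg => by
      rw [Finset.mem_singleton] at hg
      rw [hg, ← charDegree_irr χ, div_self]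
      · exact isIntegral_one
      · have := charDegree_pos χ
        exact_mod_cast this.ne')
  have h2 := card_zeros h
  rw [Finset.card_singleton, one_mul] at h1
  have h3 := Nat.mul_le_mul_left (cent x) h1
  have h4 : cent x * (1 + (Finset.univ.filter fun g : G => (χ : G → ℂ) g = 0).card)
      = Nat.card G + cent x := by
    rw [mul_add, mul_one, ← h2]
    simp only [cent]
    ring
  rw [h4] at h3
  exact h3

/-- **T2.** -/
theorem cent_mul_le (h : One χ x) : cent x * (charDegree (χ : G → ℂ) ^ 2 - 1) ≤ Nat.card G := by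
  have h1 := cent_mul_sq_le h
  rw [Nat.mul_sub, mul_one]
  omega

/-- The degree is at least two. -/
theorem one_lt_deg (h : One χ x) : 1 < charDegree (χ : G → ℂ) := by
  have hpos := charDegree_pos χ
  by_contra hlt
  have h1 : charDegree (χ : G → ℂ) = 1 := by omega
  obtain ⟨m, ρ, hρ, hχ⟩ := χ.2
  have h3 := charDegree_irr χ
  rw [← hχ, Representation.char_one] at h3
  have h4 : charDegree (χ : G → ℂ) = Module.finrank ℂ (Fin m → ℂ) := by
    rw [← hχ]; exact_mod_cast h3
  rw [h1, Module.finrank_fin_fun] at h4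
  subst h4
  have h5 := h.zero
  rw [← hχ] at h5
  have h6 : (LinearMap.toMatrix' (ρ x)) 0 0 = 0 := by
    have h7 : LinearMap.trace ℂ (Fin 1 → ℂ) (ρ x) = 0 := h5
    rw [LinearMap.trace_eq_matrix_trace ℂ (Pi.basisFun ℂ (Fin 1))] at h7
    simpa [Matrix.trace] using h7
  have h8 : LinearMap.toMatrix' (ρ x) = 0 := by
    ext i j
    rw [Subsingleton.elim i 0, Subsingleton.elim j 0, h6]
    rfl
  have h9 : ρ x = 0 := by
    have := congrArg Matrix.toLin' h8
    rwa [Matrix.toLin'_toMatrix', map_zero] at this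
  have h10 : ρ x * ρ x⁻¹ = 1 := by rw [← map_mul, mul_inv_cancel, map_one]
  rw [h9, zero_mul] at h10
  exact zero_ne_one h10

/-- **T3.** If the degree is divisible by the `r`-part of `|G|`, all `r`-singular elements are conjugate to `x`. -/
theorem conj_of_singular (h : One χ x) {r n : ℕ} (hr : r.Prime) (h1 : r ^ n ∣ Nat.card G)
    (h2 : ¬ r ^ (n + 1) ∣ Nat.card G) (hd : r ^ n ∣ charDegree (χ : G → ℂ)) {g : G} (hg : r ∣ orderOf g) :
    IsConj x g := by
  refine h.uniq g ?_
  obtain ⟨m, ρ, hρ, hχ⟩ := χ.2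
  rw [← hχ]
  refine S0165.result ρ r n hr h1 h2 ?_ g hg
  have h3 := charDegree_irr χ
  rw [← hχ, Representation.char_one] at h3
  have h4 : charDegree (χ : G → ℂ) = Module.finrank ℂ (Fin m → ℂ) := by
    rw [← hχ]; exact_mod_cast h3
  rwa [← h4]

/-- **T3.** Two non-conjugate `r`-singular elements: the `r`-part of `|G|` does not divide the degree. -/
theorem not_dvd_deg (h : One χ x) {r n : ℕ} (hr : r.Prime) (h1 : r ^ n ∣ Nat.card G)
    (h2 : ¬ r ^ (n + 1) ∣ Nat.card G) {g g' : G} (hg : r ∣ orderOf g) (hg' : r ∣ orderOf g')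
    (hn : ¬ IsConj g g') : ¬ r ^ n ∣ charDegree (χ : G → ℂ) := fun hd =>
  hn (((conj_of_singular h hr h1 h2 hd hg).symm).trans (conj_of_singular h hr h1 h2 hd hg'))

theorem orderOf_eq_of_conj {g g' : G} (h : IsConj g g') : orderOf g = orderOf g' := by
  obtain ⟨c, rfl⟩ := isConj_iff.1 h
  exact (MulAut.conj c).orderOf_eq g |>.symm

/-- **T3.** Two `r`-singular elements of different orders: the `r`-part of `|G|` does not divide the degree. -/
theorem not_dvd_deg' (h : One χ x) {r n : ℕ} (hr : r.Prime) (h1 : r ^ n ∣ Nat.card G)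
    (h2 : ¬ r ^ (n + 1) ∣ Nat.card G) {g g' : G} (hg : r ∣ orderOf g) (hg' : r ∣ orderOf g')
    (hn : orderOf g ≠ orderOf g') : ¬ r ^ n ∣ charDegree (χ : G → ℂ) :=
  not_dvd_deg h hr h1 h2 hg hg' fun hc => hn (orderOf_eq_of_conj hc)

/-- An element whose centralizer has prime order `c`: `c²` does not divide `|G|`. -/
theorem cent_prime {x : G} (hx : x ≠ 1) (hc : (cent x).Prime) : ¬ cent x ^ 2 ∣ Nat.card G := by
  intro hd
  have : Fact (cent x).Prime := ⟨hc⟩
  have hmem : x ∈ Subgroup.centralizer ({x} : Set G) := by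
    rw [Subgroup.mem_centralizer_singleton_iff]
  have hle : Subgroup.zpowers x ≤ Subgroup.centralizer ({x} : Set G) := by
    rwa [Subgroup.zpowers_le]
  have ho : orderOf x ∣ cent x := by
    rw [← Nat.card_zpowers]; exact Subgroup.card_dvd_of_le hle
  have ho' : orderOf x = cent x := by
    rcases (Nat.dvd_prime hc).1 ho with h | h
    · exact absurd (orderOf_eq_one_iff.1 h) hx
    · exact h
  have hP : IsPGroup (cent x) (Subgroup.zpowers x) := IsPGroup.of_card (n := 1) (by
    rw [Nat.card_zpowers, ho', pow_one])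
  obtain ⟨P, hPx⟩ := hP.exists_le_sylow
  have hxP : x ∈ (P : Subgroup G) := hPx (Subgroup.mem_zpowers x)
  have hnt : Nontrivial (P : Subgroup G) := ⟨⟨⟨x, hxP⟩, 1, fun h => hx (congrArg Subtype.val h)⟩⟩
  have hZ := P.2.center_nontrivial
  obtain ⟨z, hz⟩ := exists_ne (1 : Subgroup.center (P : Subgroup G))
  have hz1 : ((z : (P : Subgroup G)) : G) ≠ 1 := fun h => hz (Subtype.ext (Subtype.ext h))
  have hzc := Subgroup.mem_center_iff.1 z.2
  have hzx : ((z : (P : Subgroup G)) : G) ∈ Subgroup.centralizer ({x} : Set G) := by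
    rw [Subgroup.mem_centralizer_singleton_iff]
    exact (congrArg Subtype.val (hzc ⟨x, hxP⟩)).symm
  -- the centralizer is cyclic of prime order generated by `z`
  have hCx : Subgroup.centralizer ({x} : Set G) = Subgroup.zpowers x := by
    refine (Subgroup.eq_of_le_of_card_ge hle ?_).symm
    rw [Nat.card_zpowers, ho']
  have hzo : orderOf ((z : (P : Subgroup G)) : G) = cent x := by
    have h1 : orderOf ((z : (P : Subgroup G)) : G) ∣ cent x := by
      rw [← Nat.card_zpowers]
      exact Subgroup.card_dvd_of_le (by rwa [Subgroup.zpowers_le])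
    rcases (Nat.dvd_prime hc).1 h1 with h | h
    · exact absurd (orderOf_eq_one_iff.1 h) hz1
    · exact h
  have hzz : Subgroup.zpowers ((z : (P : Subgroup G)) : G) = Subgroup.centralizer ({x} : Set G) := by
    refine Subgroup.eq_of_le_of_card_ge (by rwa [Subgroup.zpowers_le]) ?_
    rw [Nat.card_zpowers, hzo]
  have hxz : x ∈ Subgroup.zpowers ((z : (P : Subgroup G)) : G) := by rw [hzz]; exact hmem
  have hPle : (P : Subgroup G) ≤ Subgroup.centralizer ({x} : Set G) := by
    intro g hg
    rw [Subgroup.mem_centralizer_singleton_iff]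
    obtain ⟨k, hk⟩ := Subgroup.mem_zpowers_iff.1 hxz
    have h1 : Commute g ((z : (P : Subgroup G)) : G) := congrArg Subtype.val (hzc ⟨g, hg⟩)
    have h2 : Commute g x := by rw [← hk]; exact h1.zpow_right k
    exact h2
  have h1 : Nat.card (P : Subgroup G) ∣ cent x := Subgroup.card_dvd_of_le hPle
  have h2 : cent x ^ 2 ∣ Nat.card (P : Subgroup G) := P.pow_dvd_card_of_pow_dvd_card hd
  have h3 := Nat.le_of_dvd hc.pos (h2.trans h1)
  have h4 := hc.two_le
  nlinarith

/-- **C0.** -/
theorem four_le_cent (h : One χ x) (h4 : 4 ∣ Nat.card G) (h9 : 9 ∣ Nat.card G) : 4 ≤ cent x := by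
  have hx := ne_one h
  have h1 : cent x ≠ 1 := by
    intro h1
    have h2 : Subgroup.centralizer ({x} : Set G) = ⊥ := Subgroup.card_eq_one.1 h1
    have h3 : x ∈ Subgroup.centralizer ({x} : Set G) := by
      rw [Subgroup.mem_centralizer_singleton_iff]
    rw [h2, Subgroup.mem_bot] at h3
    exact hx h3
  have h0 : 0 < cent x := Nat.card_pos
  by_contra hlt
  have h2 : cent x = 2 ∨ cent x = 3 := by omega
  rcases h2 with h2 | h2
  · exact cent_prime hx (by rw [h2]; exact Nat.prime_two) (by rw [h2]; exact h4)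
  · exact cent_prime hx (by rw [h2]; exact Nat.prime_three) (by rw [h2]; exact h9)

end Cfsg.Agent.H604.OZ
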