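import Cfsg.Agent.H604.OZ.HNNine
import Cfsg.Agent.H101.RealHN

/-!
# Elements of the Harada-Norton group (helper604, for the HN row of S4842)

* `exists_nine` : a rational element of order 9;
* `no_inv_nine` : no involution commutes with an element of order 9;
* `cent_seven`  : `14 ∣ |C(x)|` for `x` of order 7;
* `cent_gt`     : if 2-elements have centralizers of order at least 16, then `10 < |C(x)|` for all `x`.
-/

set_option autoImplicit false

namespace Cfsg.Agent.H604.OZ.HN

open Subgroup Cfsg Cfsg.Agent.H101.RO.HNRow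
open Cfsg.Agent.KFacts.HN.Classes Cfsg.Agent.KFacts.HN Cfsg.Agent.HN.XInst Cfsg.Agent.HN.XWords

/-- `A12 < HN` -/
theorem exists_alt : ∃ f : alternatingGroup (Fin 12) →* Spor.HN, Function.Injective f := by
  have hs : IsSimpleGroup Spor.HN := Cfsg.Agent.S1701.result.1
  obtain ⟨K, ⟨e⟩⟩ := Cfsg.Agent.HN.A12Group.exists_alternating
  exact ⟨K.subtype.comp e.symm.toMonoidHom, fun a b h => e.symm.injective (Subtype.ext h)⟩

theorem order_f {f : alternatingGroup (Fin 12) →* Spor.HN} (hf : Function.Injective f) (a : alternatingGroup (Fin 12)) :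
    orderOf (f a) = orderOf a := orderOf_injective f hf a

/-! ### no involution commutes with an element of order 9 -/

theorem conj_AT {f : alternatingGroup (Fin 12) →* Spor.HN} (hf : Function.Injective f) :
    IsConj (Cfsg.Agent.HN.NormalH.ψ Cfsg.Agent.HN.H0Basic.τ) (f AT) := by
  have := finite_HN
  rcases inv_class (u := f AT) (by rw [order_f hf, order_AT]) with h | h
  · exact h.symm
  · exfalso
    have h1 := Cfsg.Agent.H101.RO.HNRow.card_cent_conj h
    rw [PCard.card_centralizer] at h1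
    have h2 : f A7 ∈ centralizer ({f AT} : Set Spor.HN) := by
      rw [mem_centralizer_singleton_iff, ← map_mul, ← map_mul]
      exact congrArg f (Subtype.ext comm_t7)
    have h3 := orderOf_dvd_natCard (⟨f A7, h2⟩ : centralizer ({f AT} : Set Spor.HN))
    rw [Subgroup.orderOf_mk, order_f hf, order_A7, h1] at h3
    norm_num at h3

theorem card_cent_AT {f : alternatingGroup (Fin 12) →* Spor.HN} (hf : Function.Injective f) :
    Nat.card (centralizer ({f AT} : Set Spor.HN)) = 177408000 := by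
  rw [← Cfsg.Agent.H101.RO.HNRow.card_cent_conj (conj_AT hf)]
  exact card_centralizer_τ

theorem no_AT {f : alternatingGroup (Fin 12) →* Spor.HN} (hf : Function.Injective f) {x : Spor.HN} (hx : orderOf x = 9)
    (hc : f AT * x = x * f AT) : False := by
  have := finite_HN
  have hcard := card_cent_AT hf
  have hcx : x ∈ centralizer ({f AT} : Set Spor.HN) := mem_centralizer_singleton_iff.2 hc.symm
  have hca : f AA ∈ centralizer ({f AT} : Set Spor.HN) := by
    rw [mem_centralizer_singleton_iff, ← map_mul, ← map_mul]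
    exact congrArg f (Subtype.ext comm_ta)
  have hcb : f AB ∈ centralizer ({f AT} : Set Spor.HN) := by
    rw [mem_centralizer_singleton_iff, ← map_mul, ← map_mul]
    exact congrArg f (Subtype.ext comm_tb)
  refine no_nine (G := centralizer ({f AT} : Set Spor.HN)) (by rw [hcard]; norm_num) (a := ⟨f AA, hca⟩)
    (b := ⟨f AB, hcb⟩) (by rw [Subgroup.orderOf_mk, order_f hf, order_AA])
    (by rw [Subgroup.orderOf_mk, order_f hf, order_AB]) ?_ ?_ ⟨x, hcx⟩ (by rw [Subgroup.orderOf_mk, hx])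
  · apply Subtype.ext
    show f AA * f AB = f AB * f AA
    rw [← map_mul, ← map_mul]
    exact congrArg f (Subtype.ext comm_ab)
  · rintro ⟨n, hn⟩
    have h1 : f AA ^ n = f AB := congrArg Subtype.val hn
    rw [← map_zpow] at h1
    exact AB_notMem ⟨n, hf h1⟩

/-- **no involution commutes with an element of order 9** -/
theorem no_inv_nine {x u : Spor.HN} (hx : orderOf x = 9) (hu : orderOf u = 2) (hc : u * x = x * u) : False := by
  obtain ⟨f, hf⟩ := exists_alt
  rcases inv_class hu with h | h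
  · obtain ⟨y, hy1, hy2⟩ := exists_of_conj (h.trans (conj_AT hf)) hc
    exact no_AT hf (by rw [hy1, hx]) hy2
  · obtain ⟨y, hy1, hy2⟩ := exists_of_conj h hc
    exact no_W0 (by rw [hy1, hx]) hy2

/-! ### a rational element of order 9 -/

/-- `i ↦ 2 i` modulo 9 -/
def p2 : Equiv.Perm (Fin 12) where
  toFun := ![0, 2, 4, 6, 8, 1, 3, 5, 7, 9, 10, 11]
  invFun := ![0, 5, 1, 6, 2, 7, 3, 8, 4, 9, 10, 11]
  left_inv := by decide
  right_inv := by decide

theorem p2_sign : p2 ∈ alternatingGroup (Fin 12) := by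
  rw [Equiv.Perm.mem_alternatingGroup]
  decide +kernel

theorem conj2 : p2 * p9 = p9 ^ 2 * p2 := by decide +kernel

/-- a rational element of order 9 -/
theorem exists_nine : ∃ y : Spor.HN, orderOf y = 3 ^ 2 ∧ ∀ m : ℕ, ¬ 3 ∣ m → IsConj (y ^ m) y := by
  obtain ⟨f, hf⟩ := exists_alt
  refine ⟨f A9, by rw [order_f hf, order_A9]; norm_num, ?_⟩
  have h1 : IsConj (f A9 ^ 2) (f A9) := by
    refine IsConj.symm (isConj_iff.2 ⟨f ⟨p2, p2_sign⟩, ?_⟩)
    rw [mul_inv_eq_iff_eq_mul, ← map_mul, ← map_pow, ← map_mul]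
    exact congrArg f (Subtype.ext conj2)
  have h2 : ∀ j : ℕ, IsConj (f A9 ^ 2 ^ j) (f A9) := by
    intro j
    induction j with
    | zero => rw [pow_zero, pow_one]
    | succ j ih =>
      rw [pow_succ, pow_mul]
      exact (ih.pow 2).trans h1
  have h9 : f A9 ^ 9 = 1 := by
    have := pow_orderOf_eq_one (f A9)
    rwa [order_f hf, order_A9] at this
  intro m hm
  have h3 : ∃ j : ℕ, m % 9 = 2 ^ j % 9 := by
    have h4 : m % 9 = 1 ∨ m % 9 = 2 ∨ m % 9 = 4 ∨ m % 9 = 8 ∨ m % 9 = 7 ∨ m % 9 = 5 := by omega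
    rcases h4 with h | h | h | h | h | h
    · exact ⟨0, h⟩
    · exact ⟨1, h⟩
    · exact ⟨2, h⟩
    · exact ⟨3, h⟩
    · exact ⟨4, h⟩
    · exact ⟨5, h⟩
  obtain ⟨j, hj⟩ := h3
  have h4 : f A9 ^ m = f A9 ^ 2 ^ j := by
    rw [pow_eq_pow_mod m h9, pow_eq_pow_mod (2 ^ j) h9, hj]
  rw [h4]
  exact h2 j

/-! ### elements of order 7 -/

theorem cent_seven {x : Spor.HN} (hx : orderOf x = 7) : 14 ∣ Nat.card (centralizer ({x} : Set Spor.HN)) := by
  have := finite_HN
  have h7 : Fact (Nat.Prime 7) := ⟨by norm_num⟩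
  obtain ⟨f, hf⟩ := exists_alt
  have ho : orderOf (f A7) = 7 := by rw [order_f hf, order_A7]
  have hi : ¬ 7 ∣ (zpowers (f A7)).index := by
    intro h
    have h1 := (zpowers (f A7)).card_mul_index
    obtain ⟨t, ht⟩ := h
    rw [Nat.card_zpowers, ho, ht, card_HN] at h1
    omega
  obtain ⟨g, hg⟩ := exists_conj_le (isPGroup_zpowers (p := 7) (n := 1) (by rw [ho, pow_one])) hi
    (isPGroup_zpowers (p := 7) (n := 1) (by rw [hx, pow_one]))
  obtain ⟨k, hk⟩ := mem_zpowers_iff.1 (hg x (mem_zpowers x))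
  rw [← Cfsg.Agent.H604.OZ.card_cent_conj g x]
  have h2 : f AT ∈ centralizer ({g * x * g⁻¹} : Set Spor.HN) := by
    rw [mem_centralizer_singleton_iff, ← hk]
    have h3 : Commute (f A7) (f AT) := by
      change _ * _ = _ * _
      rw [← map_mul, ← map_mul]
      exact congrArg f (Subtype.ext comm_t7)
    exact (h3.zpow_left k).eq.symm
  have h3 : g * x * g⁻¹ ∈ centralizer ({g * x * g⁻¹} : Set Spor.HN) := mem_centralizer_singleton_iff.2 rfl
  have h4 := orderOf_dvd_natCard (⟨_, h2⟩ : centralizer ({g * x * g⁻¹} : Set Spor.HN))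
  have h5 := orderOf_dvd_natCard (⟨_, h3⟩ : centralizer ({g * x * g⁻¹} : Set Spor.HN))
  rw [Subgroup.orderOf_mk, order_f hf, order_AT] at h4
  have h6 : orderOf (g * x * g⁻¹) = 7 := by
    rw [← hx]
    exact orderOf_injective (MulAut.conj g).toMonoidHom (MulAut.conj g).injective x
  rw [Subgroup.orderOf_mk, h6] at h5
  exact Nat.Coprime.mul_dvd_of_dvd_of_dvd (by norm_num) h4 h5

/-! ### small centralizers -/

/-- `x = t s`, `t` an involution, `s` of order `p`: `p ^ 2 ∣ |C(t)|` implies `p ^ 2 ∣ |C(x)|` -/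
theorem sq_dvd_cent_mul {G : Type*} [Group G] [Finite G] {p : ℕ} [hp : Fact p.Prime] (h2 : p ≠ 2)
    (H : ∀ t : G, orderOf t = 2 → p ^ 2 ∣ Nat.card (centralizer ({t} : Set G))) {x : G} (hx : orderOf x = 2 * p) :
    p ^ 2 ∣ Nat.card (centralizer ({x} : Set G)) := by
  have ht : orderOf (x ^ p) = 2 := by
    rw [orderOf_pow_of_dvd hp.out.ne_zero (by rw [hx]; exact dvd_mul_left _ _), hx, Nat.mul_div_cancel _ hp.out.pos]
  have hs : orderOf (x ^ 2) = p := by
    rw [orderOf_pow_of_dvd (by norm_num) (by rw [hx]; exact dvd_mul_right _ _), hx,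
      Nat.mul_div_cancel_left _ (by norm_num)]
  have hsC : x ^ 2 ∈ centralizer ({x ^ p} : Set G) :=
    mem_centralizer_singleton_iff.2 ((Commute.refl x).pow_pow 2 p).eq
  have h3 : orderOf (⟨x ^ 2, hsC⟩ : centralizer ({x ^ p} : Set G)) = p ^ 1 := by
    rw [Subgroup.orderOf_mk, hs, pow_one]
  have h4 := sq_dvd_cent (H _ ht) h3 (fun h => by
    have h5 : x ^ 2 = 1 := congrArg Subtype.val h
    rw [h5, orderOf_one] at hs
    exact hp.out.one_lt.ne' hs.symm)
  refine h4.trans ?_
  set C := centralizer ({x ^ p} : Set G) with hC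
  have h5 : (centralizer ({⟨x ^ 2, hsC⟩} : Set C)).map C.subtype ≤ centralizer ({x} : Set G) := by
    rintro _ ⟨g, hg, rfl⟩
    have h6 : (g : G) * x ^ p = x ^ p * g := mem_centralizer_singleton_iff.1 g.2
    have h7 : (g : G) * x ^ 2 = x ^ 2 * g := congrArg Subtype.val (mem_centralizer_singleton_iff.1 hg)
    rw [mem_centralizer_singleton_iff]
    change (g : G) * x = x * g
    obtain ⟨k, hk⟩ := (hp.out.odd_of_ne_two h2)
    have h8 : x = x ^ p * ((x ^ 2) ^ k)⁻¹ := by
      rw [← pow_mul, eq_mul_inv_iff_mul_eq, ← pow_succ', ← hk]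
    have c1 : Commute (g : G) (x ^ p) := h6
    have c2 : Commute (g : G) (x ^ 2) := h7
    have c3 : Commute (g : G) (x ^ p * ((x ^ 2) ^ k)⁻¹) := c1.mul_right (c2.pow_right k).inv_right
    rw [← h8] at c3
    exact c3.eq
  refine Dvd.dvd.trans (Eq.dvd ?_) (card_dvd_of_le h5)
  exact Nat.card_congr ((centralizer ({⟨x ^ 2, hsC⟩} : Set C)).equivMapOfInjective _ C.subtype_injective).toEquiv

theorem dvd_card_cent_inv {n : ℕ} (h1 : n ∣ 177408000) (h2 : n ∣ 3686400) {t : Spor.HN} (ht : orderOf t = 2) :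
    n ∣ Nat.card (centralizer ({t} : Set Spor.HN)) := by
  rcases inv_class ht with h | h
  · rw [Cfsg.Agent.H101.RO.HNRow.card_cent_conj h, card_centralizer_τ]
    exact h1
  · rw [Cfsg.Agent.H101.RO.HNRow.card_cent_conj h, PCard.card_centralizer]
    exact h2

/-- **all centralizers have more than ten elements** -/
theorem cent_gt (hp4 : ∀ x : Spor.HN, (∃ n, orderOf x = 2 ^ n) → 16 ≤ Nat.card (centralizer ({x} : Set Spor.HN)))
    (x : Spor.HN) : 10 < Nat.card (centralizer ({x} : Set Spor.HN)) := by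
  have := finite_HN
  have i3 : Fact (Nat.Prime 3) := ⟨Nat.prime_three⟩
  have i5 : Fact (Nat.Prime 5) := ⟨Nat.prime_five⟩
  by_contra hlt
  push Not at hlt
  have hpos : 0 < Nat.card (centralizer ({x} : Set Spor.HN)) := Nat.card_pos
  have h1 : orderOf x ∣ Nat.card (centralizer ({x} : Set Spor.HN)) := by
    have h2 := orderOf_dvd_natCard (⟨x, mem_centralizer_singleton_iff.2 rfl⟩ : centralizer ({x} : Set Spor.HN))
    rwa [Subgroup.orderOf_mk] at h2
  have h2 : orderOf x ≤ 10 := (Nat.le_of_dvd hpos h1).trans hlt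
  have h3 : 0 < orderOf x := orderOf_pos x
  have two : ∀ n, orderOf x = 2 ^ n → False := fun n h => by
    have := hp4 x ⟨n, h⟩
    omega
  have three : ∀ n, orderOf x = 3 ^ n → False := fun n h => by
    have := Nat.le_of_dvd hpos (dvd_cent_three h)
    omega
  have hcases : orderOf x = 1 ∨ orderOf x = 2 ∨ orderOf x = 3 ∨ orderOf x = 4 ∨ orderOf x = 5 ∨ orderOf x = 6 ∨
      orderOf x = 7 ∨ orderOf x = 8 ∨ orderOf x = 9 ∨ orderOf x = 10 := by omega
  rcases hcases with h | h | h | h | h | h | h | h | h | h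
  · exact two 0 h
  · exact two 1 h
  · exact three 1 h
  · exact two 2 h
  · have h4 := sq_dvd_cent (p := 5) (K := Spor.HN) (by rw [card_HN]; norm_num) (x := x) (n := 1) (by rw [h, pow_one])
      (fun h5 => by rw [h5, orderOf_one] at h; omega)
    have := Nat.le_of_dvd hpos h4
    omega
  · have h4 := sq_dvd_cent_mul (p := 3) (G := Spor.HN) (by norm_num)
      (fun t ht => dvd_card_cent_inv (by norm_num) (by norm_num) ht) (x := x) (by rw [h])
    have := Nat.le_of_dvd hpos ((Nat.Coprime.mul_dvd_of_dvd_of_dvd (by norm_num) h4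
      (show 2 ∣ _ from (by norm_num : 2 ∣ 6).trans (h ▸ h1))))
    omega
  · have := Nat.le_of_dvd hpos (cent_seven h)
    omega
  · exact two 3 h
  · exact three 2 h
  · have h4 := sq_dvd_cent_mul (p := 5) (G := Spor.HN) (by norm_num)
      (fun t ht => dvd_card_cent_inv (by norm_num) (by norm_num) ht) (x := x) (by rw [h])
    have := Nat.le_of_dvd hpos h4
    omega

end Cfsg.Agent.H604.OZ.HN
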