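import Cfsg.Agent.H604.OZ.HNElts
import Cfsg.Agent.H604.OZ.Sec

/-!
# The Harada-Norton group: degrees divisible by 6 or by a large power of 2 (helper604, for the HN row of S4842)

`P3`, `P4` : the facts on the 2-elements (helper285, helper714).

* `not_six`   : `One χ x` implies `6 ∤ χ(1)` (sections of an element of order 8 with `|C| = 80` and of one of order 9);
* `not_two10` : `One χ x`, `2 ^ 10 ∣ χ(1)` implies `χ(1) < 10000` (the 2-central involution).
-/

set_option autoImplicit false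

namespace Cfsg.Agent.H604.OZ.HN

open Subgroup Cfsg Cfsg.Agent.H732.VZ
open Cfsg.Agent.KFacts.HN.Classes Cfsg.Agent.KFacts.HN Cfsg.Agent.HN.XWords

/-- an element of class 8B -/
def P3 : Prop := ∃ v : Spor.HN, orderOf v = 8 ∧ 40 ∣ Nat.card (centralizer ({v} : Set Spor.HN)) ∧
  Nat.card (centralizer ({v} : Set Spor.HN)) ≤ 80 ∧ ∀ k : ℕ, Odd k → IsConj (v ^ k) v

/-- the centralizers of the 2-elements -/
def P4 : Prop := ∀ x : Spor.HN, (∃ n, orderOf x = 2 ^ n) → 16 ≤ Nat.card (centralizer ({x} : Set Spor.HN))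

instance finHN : Finite Spor.HN := finite_HN

theorem cent_conj {G : Type*} [Group G] {x y : G} (h : IsConj x y) : cent x = cent y := by
  obtain ⟨g, rfl⟩ := isConj_iff.1 h
  exact (card_cent_conj g x).symm

/-- in the section of `v` -/
theorem sec_v {v : Spor.HN} (ho : orderOf v = 8) (h40 : 40 ∣ cent v) (h80 : cent v ≤ 80) {w u : Spor.HN}
    (hw : IsConj v w) (hc : Commute w u) (hu : ¬ 2 ∣ orderOf u) : 40 ≤ cent (w * u) := by
  have hv : cent w = cent v := (cent_conj hw).symm
  have how : orderOf w = 8 := by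
    obtain ⟨g, rfl⟩ := isConj_iff.1 hw
    rw [← ho]
    exact orderOf_injective (MulAut.conj g).toMonoidHom (MulAut.conj g).injective v
  have hpos : 0 < cent v := Nat.card_pos
  have h1 : orderOf u ∣ cent w := by
    have h2 := orderOf_dvd_natCard (⟨u, mem_centralizer_singleton_iff.2 hc.symm.eq⟩ : centralizer ({w} : Set Spor.HN))
    rwa [Subgroup.orderOf_mk] at h2
  obtain ⟨t, ht⟩ := h40
  have htc : t = 1 ∨ t = 2 := by omega
  have h2 : orderOf u ∣ 5 := by
    rw [hv, ht] at h1
    have hcop : Nat.Coprime (orderOf u) (2 ^ 4) :=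
      Nat.Coprime.pow_right 4 ((Nat.Prime.coprime_iff_not_dvd Nat.prime_two).2 hu).symm
    have h3 : orderOf u ∣ 2 ^ 4 * 5 := h1.trans (by rcases htc with rfl | rfl <;> norm_num)
    exact hcop.dvd_of_dvd_mul_left h3
  rcases (Nat.dvd_prime Nat.prime_five).1 h2 with h3 | h3
  · rw [orderOf_eq_one_iff.1 h3, mul_one, hv, ht]
    rcases htc with rfl | rfl <;> norm_num
  · have h4 : orderOf (w * u) = 40 := by
      rw [hc.orderOf_mul_eq_mul_orderOf_of_coprime (by rw [how, h3]; norm_num), how, h3]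
    have h5 := orderOf_dvd_natCard (⟨w * u, mem_centralizer_singleton_iff.2 rfl⟩ : centralizer ({w * u} : Set Spor.HN))
    rw [Subgroup.orderOf_mk, h4] at h5
    exact Nat.le_of_dvd Nat.card_pos h5

/-- in the section of `y` -/
theorem sec_y {y : Spor.HN} (ho : orderOf y = 3 ^ 2) {w u : Spor.HN}
    (hw : IsConj y w) (hc : Commute w u) (hu : ¬ 3 ∣ orderOf u) : 18 ≤ cent (w * u) := by
  have how : orderOf w = 3 ^ 2 := by
    obtain ⟨g, rfl⟩ := isConj_iff.1 hw
    rw [← ho]
    exact orderOf_injective (MulAut.conj g).toMonoidHom (MulAut.conj g).injective y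
  have hpos : 0 < cent (w * u) := Nat.card_pos
  by_cases h1 : u = 1
  · subst h1
    rw [mul_one] at hpos ⊢
    have := Nat.le_of_dvd hpos (dvd_cent_three how)
    omega
  · have h2 : 2 ≤ orderOf u := by
      have h3 : orderOf u ≠ 1 := fun h => h1 (orderOf_eq_one_iff.1 h)
      have h4 : 0 < orderOf u := orderOf_pos u
      omega
    have h4 : orderOf (w * u) = 3 ^ 2 * orderOf u := by
      rw [hc.orderOf_mul_eq_mul_orderOf_of_coprime (by
        rw [how]; exact Nat.Coprime.pow_left 2 ((Nat.Prime.coprime_iff_not_dvd Nat.prime_three).2 hu)), how]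
    have h5 := orderOf_dvd_natCard (⟨w * u, mem_centralizer_singleton_iff.2 rfl⟩ : centralizer ({w * u} : Set Spor.HN))
    rw [Subgroup.orderOf_mk, h4] at h5
    have h6 := Nat.le_of_dvd hpos h5
    omega

/-- an element with a power of order 8 and a power of order 9 does not exist: the sections are disjoint -/
theorem disj {w u w' u' : Spor.HN} (hw : orderOf w = 8) (hc : Commute w u) (hu : ¬ 2 ∣ orderOf u)
    (hw' : orderOf w' = 3 ^ 2) (hc' : Commute w' u') (hu' : ¬ 3 ∣ orderOf u') : w * u ≠ w' * u' := by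
  intro h
  -- `a` kills `u`, `a` odd: `(w u) ^ a = w ^ a` has order 8
  set g := w * u with hg
  have h1 : g ^ (4 * orderOf u) = w ^ (4 * orderOf u) := by
    rw [hg, hc.mul_pow, show 4 * orderOf u = orderOf u * 4 by ring, pow_mul u, pow_orderOf_eq_one, one_pow, mul_one]
  have h2 : orderOf (w ^ (4 * orderOf u)) = 2 := by
    refine orderOf_eq_prime ?_ ?_
    · rw [← pow_mul, show 4 * orderOf u * 2 = 8 * orderOf u by ring, pow_mul, ← hw, pow_orderOf_eq_one, one_pow]
    · intro h3
      have h4 := orderOf_dvd_of_pow_eq_one h3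
      rw [hw] at h4
      omega
  have h3 : g ^ orderOf u' = w' ^ orderOf u' := by
    rw [h, hc'.mul_pow, pow_orderOf_eq_one, mul_one]
  have h4 : orderOf (w' ^ orderOf u') = 9 := by
    rw [Nat.Coprime.orderOf_pow (by
      rw [hw']; exact Nat.Coprime.pow_left 2 ((Nat.Prime.coprime_iff_not_dvd Nat.prime_three).2 hu')), hw']
    norm_num
  refine no_inv_nine (x := w' ^ orderOf u') (u := w ^ (4 * orderOf u)) h4 h2 ?_
  rw [← h1, ← h3]
  exact ((Commute.refl g).pow_pow _ _).eq

/-- **degrees divisible by 6** -/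
theorem not_six_of (hp3 : P3) (hp4 : P4) {χ : IrrCharacter Spor.HN} {x : Spor.HN} (h : One χ x) :
    ¬ 6 ∣ charDegree (χ : Spor.HN → ℂ) := by
  intro h6
  obtain ⟨v, hv8, h40, h80, hvr⟩ := hp3
  obtain ⟨y, hy9, hyr⟩ := exists_nine
  have hd2 : 2 ∣ charDegree (χ : Spor.HN → ℂ) := (by norm_num : 2 ∣ 6).trans h6
  have hd3 : 3 ∣ charDegree (χ : Spor.HN → ℂ) := (by norm_num : 3 ∣ 6).trans h6
  have hov : ∃ n, orderOf v = 2 ^ n := ⟨3, hv8⟩
  have hoy : ∃ n, orderOf y = 3 ^ n := ⟨2, hy9⟩
  have hrv : ∀ m : ℕ, m.Coprime (Nat.card Spor.HN) → IsConj (v ^ m) v := fun m hm => hvr m (by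
    have h1 : m.Coprime 2 := hm.coprime_dvd_right (by rw [card_HN]; norm_num)
    exact Nat.coprime_two_right.1 h1)
  have hry : ∀ m : ℕ, m.Coprime (Nat.card Spor.HN) → IsConj (y ^ m) y := fun m hm => hyr m (by
    have h1 : m.Coprime 3 := hm.coprime_dvd_right (by rw [card_HN]; norm_num)
    exact (Nat.Prime.coprime_iff_not_dvd Nat.prime_three).1 h1.symm)
  have hy1 : 3 ^ 3 ∣ cent y := dvd_cent_three hy9
  have hy2 : ¬ 3 ^ (3 + 1) ∣ cent y := not_dvd_cent_nine hy9
  obtain ⟨m, hm4, hm1, hm2⟩ : ∃ m, m ≤ 4 ∧ 2 ^ m ∣ cent v ∧ ¬ 2 ^ (m + 1) ∣ cent v := by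
    obtain ⟨t, ht⟩ := h40
    have hpos : 0 < Nat.card (centralizer ({v} : Set Spor.HN)) := Nat.card_pos
    have htc : t = 1 ∨ t = 2 := by omega
    rcases htc with rfl | rfl
    · refine ⟨3, by norm_num, ?_, ?_⟩ <;> rw [cent, ht] <;> norm_num
    · refine ⟨4, by norm_num, ?_, ?_⟩ <;> rw [cent, ht] <;> norm_num
  have ordv : ∀ {w : Spor.HN}, IsConj v w → orderOf w = 8 := by
    rintro w hw
    obtain ⟨g, rfl⟩ := isConj_iff.1 hw
    rw [← hv8]
    exact orderOf_injective (MulAut.conj g).toMonoidHom (MulAut.conj g).injective v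
  have ordy : ∀ {w : Spor.HN}, IsConj y w → orderOf w = 3 ^ 2 := by
    rintro w hw
    obtain ⟨g, rfl⟩ := isConj_iff.1 hw
    rw [← hy9]
    exact orderOf_injective (MulAut.conj g).toMonoidHom (MulAut.conj g).injective y
  -- not in the section of `v`
  have hxv : ∀ w u : Spor.HN, IsConj v w → Commute w u → ¬ 2 ∣ orderOf u → ¬ IsConj x (w * u) := by
    intro w u hw hc hu hx
    have h1 : 40 ≤ cent x := by
      rw [cent_conj hx]
      exact sec_v hv8 h40 h80 hw hc hu
    have h2 : cent x ≤ 3 ^ 3 := by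
      refine one_sec h Nat.prime_three hoy hry hy1 hy2 hd3 ?_
      intro w' u' hw' hc' hu' hx'
      obtain ⟨g, hg⟩ := isConj_iff.1 (hx.symm.trans hx')
      have h3 : g * w * g⁻¹ * (g * u * g⁻¹) = w' * u' := by rw [← hg]; group
      refine disj (w := g * w * g⁻¹) (u := g * u * g⁻¹) (ordv (hw.trans (isConj_iff.2 ⟨g, rfl⟩))) ?_ ?_ (ordy hw') hc'
        hu' h3
      · exact hc.map (MulAut.conj g)
      · rwa [show orderOf (g * u * g⁻¹) = orderOf u from
          orderOf_injective (MulAut.conj g).toMonoidHom (MulAut.conj g).injective u]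
    omega
  -- not in the section of `y`
  have hxy : ∀ w u : Spor.HN, IsConj y w → Commute w u → ¬ 3 ∣ orderOf u → ¬ IsConj x (w * u) := by
    intro w u hw hc hu hx
    have h1 : 18 ≤ cent x := by
      rw [cent_conj hx]
      exact sec_y hy9 hw hc hu
    have h2 : cent x ≤ 2 ^ m := one_sec h Nat.prime_two hov hrv hm1 hm2 hd2 hxv
    have h3 : 2 ^ m ≤ 2 ^ 4 := Nat.pow_le_pow_right (by norm_num) hm4
    omega
  -- both sections
  have hs := secs h (Finset.univ : Finset (Fin 2)) ![v, y] ![2, 3] ![m, 3]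
    (by
      intro i _
      fin_cases i
      · exact Nat.prime_two
      · exact Nat.prime_three)
    (by
      intro i _
      fin_cases i
      · exact hov
      · exact hoy)
    (by
      intro i _
      fin_cases i
      · exact hrv
      · exact hry)
    (by
      intro i _
      fin_cases i
      · exact hm1
      · exact hy1)
    (by
      intro i _
      fin_cases i
      · exact hm2
      · exact hy2)
    (by
      intro i _
      fin_cases i
      · exact hd2
      · exact hd3)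
    (by
      intro i _
      fin_cases i
      · exact hxv
      · exact hxy)
    (by
      intro i _ j _ hij
      fin_cases i <;> fin_cases j
      · exact absurd rfl hij
      · intro w u w' u' hw hc hu hw' hc' hu'
        exact disj (ordv hw) hc hu (ordy hw') hc' hu'
      · intro w u w' u' hw hc hu hw' hc' hu'
        exact (disj (ordv hw') hc' hu' (ordy hw) hc hu).symm
      · exact absurd rfl hij)
  rw [Fin.sum_univ_two] at hs
  simp only [Matrix.cons_val_zero, Matrix.cons_val_one] at hs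
  push_cast at hs
  have h10 : (10 : ℝ) < cent x := by exact_mod_cast cent_gt hp4 x
  have h11 : ((16 : ℝ))⁻¹ ≤ ((2 : ℝ) ^ m)⁻¹ := by
    apply inv_anti₀ (by positivity)
    calc (2 : ℝ) ^ m ≤ 2 ^ 4 := pow_le_pow_right₀ (by norm_num) hm4
      _ = 16 := by norm_num
  have h12 : (11 : ℝ) ≤ cent x := by exact_mod_cast (show 10 < cent x from cent_gt hp4 x)
  have h13 : (11 : ℝ) * ((16 : ℝ)⁻¹ + ((3 : ℝ) ^ 3)⁻¹) ≤ cent x * (((2 : ℝ) ^ m)⁻¹ + ((3 : ℝ) ^ 3)⁻¹) :=
    mul_le_mul h12 (by linarith) (by positivity) (by positivity)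
  have h14 := h13.trans hs
  norm_num at h14

/-! ### the 2-central involution -/

theorem not_two10 {χ : IrrCharacter Spor.HN} {x : Spor.HN} (h : One χ x)
    (hd : 2 ^ 10 ∣ charDegree (χ : Spor.HN → ℂ)) : charDegree (χ : Spor.HN → ℂ) < 10000 := by
  by_contra hlt
  push Not at hlt
  have hcW : cent W0 = 3686400 := PCard.card_centralizer
  have hoW : W0 * W0 = 1 := W0_sq
  have hr : ∀ m : ℕ, m.Coprime (Nat.card Spor.HN) → IsConj (W0 ^ m) W0 := by
    intro m hm
    have h1 : m.Coprime 2 := hm.coprime_dvd_right (by rw [card_HN]; norm_num)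
    obtain ⟨k, rfl⟩ := Nat.coprime_two_right.1 h1
    rw [pow_succ, pow_mul, pow_two, hoW, one_pow, one_mul]
  obtain ⟨k, hk⟩ := Cfsg.Agent.H849.OZ.rat (χ := χ) hr
  have hx : ¬ IsConj x W0 := by
    intro hx
    have h1 := cent_mul_le h
    rw [cent_conj hx, hcW, card_HN] at h1
    have h2 : 10000 ^ 2 - 1 ≤ charDegree (χ : Spor.HN → ℂ) ^ 2 - 1 :=
      Nat.sub_le_sub_right (Nat.pow_le_pow_left hlt 2) 1
    have h3 := (Nat.mul_le_mul_left 3686400 h2).trans h1
    norm_num at h3
  have hn : ((2 ^ 10 : ℕ) : ℤ) ∣ k := by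
    have h1 := Cfsg.Agent.H849.OZ.rat_dvd_deg W0 hk
    have h2 : ((2 ^ 10 : ℕ) : ℤ) ∣ ((centralizer ({W0} : Set Spor.HN)).index : ℤ) * k :=
      (Int.natCast_dvd_natCast.2 hd).trans h1
    have h3 : IsCoprime ((2 ^ 10 : ℕ) : ℤ) ((centralizer ({W0} : Set Spor.HN)).index : ℤ) := by
      have h4 := (centralizer ({W0} : Set Spor.HN)).card_mul_index
      rw [show Nat.card (centralizer ({W0} : Set Spor.HN)) = 3686400 from hcW, card_HN] at h4
      have h5 : (centralizer ({W0} : Set Spor.HN)).index = 74064375 := by omega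
      rw [h5]
      exact Nat.isCoprime_iff_coprime.2 (by norm_num)
    exact h3.dvd_of_dvd_mul_left h2
  have h1 := Cfsg.Agent.H849.OZ.one_class h hr hk hx hn
  have h2 := four_le_cent h (by rw [card_HN]; norm_num) (by rw [card_HN]; norm_num)
  rw [hcW] at h1
  have h3 : 4 * ((2 ^ 10) ^ 2 - 1) ≤ cent x * ((2 ^ 10) ^ 2 - 1) := Nat.mul_le_mul_right _ h2
  have h4 := h3.trans h1
  norm_num at h4

end Cfsg.Agent.H604.OZ.HN
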