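import Cfsg.Agent.H285.Ccp.HNThree
import Cfsg.Agent.H604.OZ.Syl

/-!
# 3-elements of the Harada-Norton group (helper604, for the HN row of S4842)

`P = Q⟨F⟩` is the Sylow 3-subgroup of `H285.Ccp.HNThree`, `K = ⟨B, D, W⟩`, `P / K` is elementary abelian of order 27.

* `dvd_cent_three` : a 3-element `x` has `27 ∣ |C(x)|`;
* `not_dvd_cent_nine` : an element `x` of order 9 has `81 ∤ |C(x)|`.
-/

set_option autoImplicit false

namespace Cfsg.Agent.H604.OZ.HN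

open Subgroup Cfsg Cfsg.Agent.H839.Rad.Ext Cfsg.Agent.H285.HN3

/-- the shape of an element of `Q` -/
def Sh (x : Spor.HN) (i j u l : ℤ) : Prop := ∃ m : ℤ, x = nf W A B C₁ D i j u l m

theorem Sh.mul {x y : Spor.HN} {i j u l i' j' u' l' : ℤ} (hx : Sh x i j u l) (hy : Sh y i' j' u' l') :
    Sh (x * y) (i + i') (j + j') (u + u') (l + l') := by
  obtain ⟨m, rfl⟩ := hx
  obtain ⟨m', rfl⟩ := hy
  exact ⟨_, ext.nf_mul ..⟩

theorem Sh.one : Sh 1 0 0 0 0 := ⟨0, nf_zero.symm⟩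

theorem Sh.congr {x y : Spor.HN} {i j u l i' j' u' l' : ℤ} (hx : Sh x i j u l) (h : x = y) (h1 : i = i') (h2 : j = j')
    (h3 : u = u') (h4 : l = l') : Sh y i' j' u' l' := by
  subst h h1 h2 h3 h4; exact hx

theorem Sh.inv {x : Spor.HN} {i j u l : ℤ} (hx : Sh x i j u l) : Sh x⁻¹ (-i) (-j) (-u) (-l) := by
  obtain ⟨m, rfl⟩ := hx
  refine ⟨-m - i * j - u * l, ?_⟩
  rw [inv_eq_iff_mul_eq_one, ext.nf_mul, ← nf_zero (w := W) (a := A) (b := B) (c := C₁) (d := D)]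
  exact nf_eq (by ring) (by ring) (by ring) (by ring) (by ring)

theorem Sh.pow {x : Spor.HN} {i j u l : ℤ} (hx : Sh x i j u l) (n : ℕ) : Sh (x ^ n) (n * i) (n * j) (n * u) (n * l) := by
  induction n with
  | zero => exact Sh.one.congr (pow_zero x).symm (by simp) (by simp) (by simp) (by simp)
  | succ n ih =>
    exact (ih.mul hx).congr (pow_succ x n).symm (by push_cast; ring) (by push_cast; ring) (by push_cast; ring)
      (by push_cast; ring)

theorem Sh.zpow {x : Spor.HN} {i j u l : ℤ} (hx : Sh x i j u l) (n : ℤ) : Sh (x ^ n) (n * i) (n * j) (n * u) (n * l) := by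
  obtain ⟨k, rfl | rfl⟩ := n.eq_nat_or_neg
  · exact (hx.pow k).congr (zpow_natCast x k).symm rfl rfl rfl rfl
  · exact (hx.pow k).inv.congr (by rw [zpow_neg, zpow_natCast]) (by ring) (by ring) (by ring) (by ring)

/-- conjugation by `F` -/
theorem Sh.conjF {x : Spor.HN} {i j u l : ℤ} (hx : Sh x i j u l) : Sh (F * x * F⁻¹) i (j + i) u (l + 2 * u) := by
  obtain ⟨m, rfl⟩ := hx
  have hA : Sh (F * A ^ i * F⁻¹) i i 0 0 := by
    have h : Sh (F * A * F⁻¹) 1 1 0 0 := ⟨1, F_A⟩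
    exact (h.zpow i).congr (by rw [conj_zpow]) (by ring) (by ring) (by ring) (by ring)
  have hB : Sh (F * B ^ j * F⁻¹) 0 j 0 0 := by
    have h : Sh (F * B * F⁻¹) 0 1 0 0 := ⟨0, by rw [F_B]; simp [nf]⟩
    exact (h.zpow j).congr (by rw [conj_zpow]) (by ring) (by ring) (by ring) (by ring)
  have hC : Sh (F * C₁ ^ u * F⁻¹) 0 0 u (2 * u) := by
    have h : Sh (F * C₁ * F⁻¹) 0 0 1 2 := ⟨2, F_C⟩
    exact (h.zpow u).congr (by rw [conj_zpow]) (by ring) (by ring) (by ring) (by ring)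
  have hD : Sh (F * D ^ l * F⁻¹) 0 0 0 l := by
    have h : Sh (F * D * F⁻¹) 0 0 0 1 := ⟨0, by rw [F_D]; simp [nf]⟩
    exact (h.zpow l).congr (by rw [conj_zpow]) (by ring) (by ring) (by ring) (by ring)
  have hW : Sh (F * W ^ m * F⁻¹) 0 0 0 0 := by
    have h : Sh (F * W * F⁻¹) 0 0 0 0 := ⟨1, by rw [F_W]; simp [nf]⟩
    exact (h.zpow m).congr (by rw [conj_zpow]) (by ring) (by ring) (by ring) (by ring)
  refine ((((hA.mul hB).mul hC).mul hD).mul hW).congr ?_ (by ring) (by ring) (by ring) (by ring)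
  unfold nf
  group

/-- conjugation by powers of `F` -/
theorem Sh.conjFn {x : Spor.HN} {i j u l : ℤ} (hx : Sh x i j u l) (n : ℕ) :
    Sh (F ^ n * x * (F ^ n)⁻¹) i (j + n * i) u (l + 2 * n * u) := by
  induction n with
  | zero => exact hx.congr (by simp) (by simp) (by simp) (by simp) (by simp)
  | succ n ih => exact ih.conjF.congr (by rw [pow_succ']; group) rfl (by push_cast; ring) rfl (by push_cast; ring)

/-- the elements of `P` -/
theorem mem_P {x : Spor.HN} (hx : x ∈ P) : ∃ (s : ℕ) (q : Spor.HN) (i j u l : ℤ), s < 3 ∧ Sh q i j u l ∧ x = q * F ^ s := by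
  obtain ⟨q, ⟨i, j, u, l, m, rfl⟩, s, rfl⟩ := hx
  refine ⟨(s % 3).toNat, _, i, j, u, l, by omega, ⟨m, rfl⟩, ?_⟩
  congr 1
  rw [← zpow_natCast]
  exact zpow_eq e_f3 (by omega)

/-- **conjugation in `P`** preserves the class modulo `K` -/
theorem conj_form {s : ℕ} {q g : Spor.HN} {i j u l : ℤ} (hq : Sh q i j u l) (hg : g ∈ P) :
    ∃ (q' : Spor.HN) (j' l' : ℤ), Sh q' i j' u l' ∧ g * (q * F ^ s) * g⁻¹ = q' * F ^ s := by
  obtain ⟨t, r, a, b, c, d, _, hr, rfl⟩ := mem_P hg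
  -- `r F^t q F^s F^-t r⁻¹ = r (F^t q F^-t) (F^s r⁻¹ F^-s) F^s`
  have h1 := hq.conjFn t
  have h2 := hr.inv.conjFn s
  refine ⟨_, _, _, ((hr.mul h1).mul h2).congr rfl (by ring) rfl (by ring) rfl, ?_⟩
  have h3 : (F ^ t)⁻¹ * (F ^ s)⁻¹ = (F ^ s)⁻¹ * (F ^ t)⁻¹ := by
    rw [← mul_inv_rev, ← mul_inv_rev, ← pow_add, ← pow_add, add_comm]
  have h4 : F ^ s * (F ^ t)⁻¹ = (F ^ t)⁻¹ * F ^ s := ((Commute.refl F).pow_pow s t).inv_right.eq
  calc r * F ^ t * (q * F ^ s) * (r * F ^ t)⁻¹ = r * F ^ t * q * (F ^ s * (F ^ t)⁻¹) * r⁻¹ := by group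
    _ = _ := by rw [h4]; group

theorem card_P : Nat.card ↥P = 3 ^ 6 := by
  have : Fact (Nat.Prime 3) := ⟨Nat.prime_three⟩
  obtain ⟨n, hn⟩ := IsPGroup.iff_card.1 isPGroup_P
  have h5 := P.card_mul_index
  rw [hn, card_HN] at h5
  have h6 : ¬ 3 ∣ P.index := index_P
  have h7 : n ≤ 6 := by
    by_contra h
    obtain ⟨r, rfl⟩ := Nat.exists_eq_add_of_lt (not_le.1 h)
    have h8 : (3 : ℕ) ^ 7 ∣ 273030912000000 := ⟨3 ^ r * P.index, by rw [← h5]; ring⟩
    norm_num at h8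
  have h8 : 6 ≤ n := by
    have h9 : 3 ^ 6 ∣ 3 ^ n * P.index := by rw [h5]; norm_num
    have h10 := (Nat.Coprime.pow_left 6 ((Nat.Prime.coprime_iff_not_dvd Nat.prime_three).2 h6)).dvd_of_dvd_mul_right h9
    exact (Nat.pow_dvd_pow_iff_le_right (by norm_num)).1 h10
  rw [hn, le_antisymm h7 h8]

/-- the exponents of `B`, `D`, `W` matter only modulo 3 -/
theorem nf_red (i j u l m : ℤ) : nf W A B C₁ D i j u l m =
    nf W A B C₁ D i ((j % 3).toNat : ℕ) u ((l % 3).toNat : ℕ) ((m % 3).toNat : ℕ) := by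
  unfold nf
  have hw : W ^ 3 = 1 := by rw [← ext.hw]; exact pow_orderOf_eq_one W
  rw [zpow_eq ext.hb (show (3 : ℤ) ∣ j - ((j % 3).toNat : ℕ) by omega),
    zpow_eq ext.hd (show (3 : ℤ) ∣ l - ((l % 3).toNat : ℕ) by omega),
    zpow_eq hw (show (3 : ℤ) ∣ m - ((m % 3).toNat : ℕ) by omega)]

/-- **`27 ≤ |C_P(x)|`** -/
theorem le_cent_P {x : Spor.HN} (hx : x ∈ P) : 3 ^ 3 ≤ Nat.card ↥(P ⊓ centralizer ({x} : Set Spor.HN)) := by
  obtain ⟨s, q, i, j, u, l, _, hq, rfl⟩ := mem_P hx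
  set x := q * F ^ s with hxdef
  -- the conjugates of `x` in `P`
  let f : Fin 3 × Fin 3 × Fin 3 → Spor.HN := fun t =>
    nf W A B C₁ D i (t.1 : ℕ) u (t.2.1 : ℕ) (t.2.2 : ℕ) * F ^ s
  let φ : ↥P → Spor.HN := fun g => g * x * g⁻¹
  have h1 : ∀ g : ↥P, φ g ∈ Set.range f := by
    intro g
    obtain ⟨q', j', l', ⟨m', hq'⟩, h⟩ := conj_form (s := s) hq g.2
    refine ⟨(⟨(j' % 3).toNat, by omega⟩, ⟨(l' % 3).toNat, by omega⟩, ⟨(m' % 3).toNat, by omega⟩), ?_⟩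
    change nf W A B C₁ D i ((j' % 3).toNat : ℕ) u ((l' % 3).toNat : ℕ) ((m' % 3).toNat : ℕ) * F ^ s = _ * _ * _
    rw [← nf_red, ← hq']
    exact h.symm
  -- the index of the centralizer in `P`
  have h2 : ((P ⊓ centralizer ({x} : Set Spor.HN)).subgroupOf P).index ≤ 27 := by
    have h3 : Function.Injective (Quotient.lift (s := QuotientGroup.leftRel
        ((P ⊓ centralizer ({x} : Set Spor.HN)).subgroupOf P)) (fun g : ↥P => (⟨φ g, h1 g⟩ : Set.range f)) (by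
        intro a b hab
        have h2 := QuotientGroup.leftRel_apply.1 hab
        have h4 : (a : Spor.HN)⁻¹ * b ∈ centralizer ({x} : Set Spor.HN) := (mem_subgroupOf.1 h2).2
        rw [mem_centralizer_singleton_iff] at h4
        apply Subtype.ext
        change (a : Spor.HN) * x * (a : Spor.HN)⁻¹ = b * x * (b : Spor.HN)⁻¹
        calc (a : Spor.HN) * x * (a : Spor.HN)⁻¹ = a * (x * ((a : Spor.HN)⁻¹ * b)) * (b : Spor.HN)⁻¹ := by group
          _ = a * (((a : Spor.HN)⁻¹ * b) * x) * (b : Spor.HN)⁻¹ := by rw [h4]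
          _ = _ := by group)) := by
      intro a b
      refine Quotient.inductionOn₂ a b fun a b h => ?_
      apply Quotient.sound
      change QuotientGroup.leftRel _ a b
      rw [QuotientGroup.leftRel_apply, mem_subgroupOf, mem_inf]
      refine ⟨(a⁻¹ * b).2, mem_centralizer_singleton_iff.2 ?_⟩
      have h2 : (a : Spor.HN) * x * (a : Spor.HN)⁻¹ = b * x * (b : Spor.HN)⁻¹ := congrArg Subtype.val h
      change (a : Spor.HN)⁻¹ * b * x = x * ((a : Spor.HN)⁻¹ * b)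
      calc (a : Spor.HN)⁻¹ * b * x = (a : Spor.HN)⁻¹ * (b * x * (b : Spor.HN)⁻¹) * b := by group
        _ = (a : Spor.HN)⁻¹ * (a * x * (a : Spor.HN)⁻¹) * b := by rw [h2]
        _ = x * ((a : Spor.HN)⁻¹ * b) := by group
    have h4 := Nat.card_le_card_of_injective _ h3
    have h5 : Nat.card (Set.range f) ≤ 27 := by
      have h6 := Nat.card_le_card_of_surjective (Set.rangeFactorization f) Set.rangeFactorization_surjective
      refine h6.trans ?_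
      simp only [Nat.card_prod, Nat.card_fin]
      norm_num
    exact h4.trans h5
  have h3 := ((P ⊓ centralizer ({x} : Set Spor.HN)).subgroupOf P).card_mul_index
  rw [card_P, Nat.card_congr (Subgroup.subgroupOfEquivOfLe (inf_le_left (a := P))).toEquiv] at h3
  by_contra hlt
  push Not at hlt
  have h4 : 3 ^ 6 < 3 ^ 3 * 27 := by
    calc 3 ^ 6 = Nat.card ↥(P ⊓ centralizer ({x} : Set Spor.HN)) *
          ((P ⊓ centralizer ({x} : Set Spor.HN)).subgroupOf P).index := h3.symm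
      _ ≤ Nat.card ↥(P ⊓ centralizer ({x} : Set Spor.HN)) * 27 := Nat.mul_le_mul_left _ h2
      _ < 3 ^ 3 * 27 := Nat.mul_lt_mul_of_pos_right hlt (by norm_num)
  norm_num at h4

/-- **3-elements have centralizers of order divisible by 27** -/
theorem dvd_cent_three {x : Spor.HN} {n : ℕ} (hx : orderOf x = 3 ^ n) :
    3 ^ 3 ∣ Nat.card (centralizer ({x} : Set Spor.HN)) :=
  pow_dvd_cent isPGroup_P index_P (fun _ h => le_cent_P h) hx

/-! ### elements of order 9 -/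

theorem Sh.dvd {i j u l : ℤ} (h : Sh 1 i j u l) : (3 : ℤ) ∣ i ∧ (3 : ℤ) ∣ j ∧ (3 : ℤ) ∣ u ∧ (3 : ℤ) ∣ l := by
  obtain ⟨m, hm⟩ := h
  have key : ∀ a b c d : ℤ, (3 : ℤ) ∣ i * b - a * j + u * d - c * l := by
    intro a b c d
    have := (ext.comm_iff (i := i) (j := j) (k := u) (l := l) (m := m) (i' := a) (j' := b) (k' := c) (l' := d)
      (m' := 0)).1 (by rw [← hm, one_mul, mul_one])
    exact_mod_cast this
  refine ⟨by simpa using key 0 1 0 0, by simpa using key 1 0 0 0, by simpa using key 0 0 0 1,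
    by simpa using key 0 0 1 0⟩

theorem comm_F (j l m : ℤ) : Commute F (nf W A B C₁ D 0 j 0 l m) := by
  have cB : Commute F B := by
    have := F_B
    rwa [mul_inv_eq_iff_eq_mul] at this
  have cD : Commute F D := by
    have := F_D
    rwa [mul_inv_eq_iff_eq_mul] at this
  have cW : Commute F W := by
    have := F_W
    rwa [mul_inv_eq_iff_eq_mul] at this
  unfold nf
  rw [zpow_zero, zpow_zero, one_mul, mul_one]
  exact ((cB.zpow_right j).mul_right (cD.zpow_right l)).mul_right (cW.zpow_right m)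

theorem nf_AC {i j u l m : ℤ} (hi : (3 : ℤ) ∣ i) (hu : (3 : ℤ) ∣ u) :
    nf W A B C₁ D i j u l m = nf W A B C₁ D 0 j 0 l m := by
  unfold nf
  rw [zpow_eq ext.ha (show (3 : ℤ) ∣ i - 0 by simpa using hi), zpow_eq ext.hc (show (3 : ℤ) ∣ u - 0 by simpa using hu)]

theorem nf_BDW {j l m j' l' m' : ℤ} (hj : (3 : ℤ) ∣ j - j') (hl : (3 : ℤ) ∣ l - l') (hm : (3 : ℤ) ∣ m - m') :
    nf W A B C₁ D 0 j 0 l m = nf W A B C₁ D 0 j' 0 l' m' := by
  have hw : W ^ 3 = 1 := by rw [← ext.hw]; exact pow_orderOf_eq_one W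
  unfold nf
  rw [zpow_eq ext.hb hj, zpow_eq ext.hd hl, zpow_eq hw hm]

theorem sol {i u b d : ℤ} (h : ¬ ((3 : ℤ) ∣ i ∧ (3 : ℤ) ∣ u)) (hbd : (3 : ℤ) ∣ i * b + u * d) :
    ∃ k : Fin 3, (3 : ℤ) ∣ b - u * (k : ℕ) ∧ (3 : ℤ) ∣ d + i * (k : ℕ) := by
  obtain ⟨r, i', hr, rfl⟩ : ∃ r i' : ℤ, (r = 0 ∨ r = 1 ∨ r = 2) ∧ i = 3 * i' + r :=
    ⟨i % 3, i / 3, by omega, by omega⟩
  obtain ⟨s, u', hs, rfl⟩ : ∃ s u' : ℤ, (s = 0 ∨ s = 1 ∨ s = 2) ∧ u = 3 * u' + s :=
    ⟨u % 3, u / 3, by omega, by omega⟩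
  have h1 : (3 : ℤ) ∣ r * b + s * d := by
    obtain ⟨w, hw⟩ := hbd
    exact ⟨w - i' * b - u' * d, by linear_combination hw⟩
  have h2 : ((3 : ℤ) ∣ b - s * 0 ∧ (3 : ℤ) ∣ d + r * 0) ∨ ((3 : ℤ) ∣ b - s * 1 ∧ (3 : ℤ) ∣ d + r * 1) ∨
      ((3 : ℤ) ∣ b - s * 2 ∧ (3 : ℤ) ∣ d + r * 2) := by
    obtain ⟨β, b', hβ, rfl⟩ : ∃ β b' : ℤ, (β = 0 ∨ β = 1 ∨ β = 2) ∧ b = 3 * b' + β :=
      ⟨b % 3, b / 3, by omega, by omega⟩
    obtain ⟨δ, d', hδ, rfl⟩ : ∃ δ d' : ℤ, (δ = 0 ∨ δ = 1 ∨ δ = 2) ∧ d = 3 * d' + δ :=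
      ⟨d % 3, d / 3, by omega, by omega⟩
    rcases hr with rfl | rfl | rfl <;> rcases hs with rfl | rfl | rfl <;> rcases hβ with rfl | rfl | rfl <;>
      rcases hδ with rfl | rfl | rfl <;> omega
  rcases h2 with h2 | h2 | h2
  · exact ⟨0, by simp only [Fin.val_zero]; push_cast; omega, by simp only [Fin.val_zero]; push_cast; omega⟩
  · exact ⟨1, by simp only [Fin.val_one]; push_cast; omega, by simp only [Fin.val_one]; push_cast; omega⟩
  · exact ⟨2, by simp only [Fin.val_two]; push_cast; omega, by simp only [Fin.val_two]; push_cast; omega⟩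

theorem pow_form {q : Spor.HN} (hq : q ∈ ext.Q) (t : ℕ) : ∃ q' ∈ ext.Q, (q * F) ^ t = q' * F ^ t := by
  induction t with
  | zero => exact ⟨1, one_mem _, by simp⟩
  | succ t ih =>
    obtain ⟨q', hq', h⟩ := ih
    refine ⟨q * (F * q' * F⁻¹), mul_mem hq (F_Q _ hq'), ?_⟩
    rw [pow_succ', h, pow_succ' F t]
    group

/-- elements of `Q` commuting with `q F` -/
theorem cent_QF {i j u l m : ℤ} (hiu : ¬ ((3 : ℤ) ∣ i ∧ (3 : ℤ) ∣ u)) {h : Spor.HN} (hh : h ∈ ext.Q)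
    (hc : h * (nf W A B C₁ D i j u l m * F) = nf W A B C₁ D i j u l m * F * h) :
    ∃ k e : Fin 3, h = nf W A B C₁ D 0 (u * (k : ℕ)) 0 (-(i * (k : ℕ))) (e : ℕ) := by
  obtain ⟨a, b, c, d, e, rfl⟩ := hh
  have h1 : Sh (nf W A B C₁ D a b c d e) a b c d := ⟨e, rfl⟩
  have h2 : Sh (nf W A B C₁ D i j u l m) i j u l := ⟨m, rfl⟩
  have h3 : (nf W A B C₁ D a b c d e * nf W A B C₁ D i j u l m)⁻¹ *
      (nf W A B C₁ D i j u l m * (F * nf W A B C₁ D a b c d e * F⁻¹)) = 1 := by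
    rw [inv_mul_eq_one]
    apply mul_right_cancel (b := F)
    rw [mul_assoc, hc]
    group
  obtain ⟨_, ha, _, hc2⟩ := ((((h1.mul h2).inv).mul (h2.mul h1.conjF)).congr h3 rfl rfl rfl rfl).dvd
  have ha' : (3 : ℤ) ∣ a := by omega
  have hc' : (3 : ℤ) ∣ c := by omega
  rw [nf_AC ha' hc'] at hc ⊢
  have h4 : nf W A B C₁ D 0 b 0 d e * nf W A B C₁ D i j u l m = nf W A B C₁ D i j u l m * nf W A B C₁ D 0 b 0 d e := by
    apply mul_right_cancel (b := F)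
    rw [mul_assoc, hc, mul_assoc, (comm_F b d e).eq, mul_assoc]
  have h5 := ext.comm_iff.1 h4
  have h6 : (3 : ℤ) ∣ i * b + u * d := by
    have : ((3 : ℕ) : ℤ) ∣ -(i * b + u * d) := by convert h5 using 1; ring
    exact_mod_cast (dvd_neg.1 this)
  obtain ⟨k, hk1, hk2⟩ := sol hiu h6
  refine ⟨k, ⟨(e % 3).toNat, by omega⟩, nf_BDW hk1 (by rw [sub_neg_eq_add]; exact hk2) ?_⟩
  change (3 : ℤ) ∣ e - ((e % 3).toNat : ℕ)
  omega

theorem card_cent_QF {i j u l m : ℤ} (h9 : orderOf (nf W A B C₁ D i j u l m * F) = 9) :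
    Nat.card ↥(P ⊓ centralizer ({nf W A B C₁ D i j u l m * F} : Set Spor.HN)) ≤ 27 := by
  have hiu : ¬ ((3 : ℤ) ∣ i ∧ (3 : ℤ) ∣ u) := by
    rintro ⟨hi, hu⟩
    rw [nf_AC hi hu] at h9
    have h1 : (nf W A B C₁ D 0 j 0 l m * F) ^ 3 = 1 := by
      rw [(comm_F j l m).symm.mul_pow, ext.pow_eq_one (by decide) _ (ext.nf_mem _ _ _ _ _), e_f3, one_mul]
    have h2 := orderOf_dvd_of_pow_eq_one h1
    rw [h9] at h2
    norm_num at h2
  set x := nf W A B C₁ D i j u l m * F with hx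
  let f : Fin 3 × Fin 3 × Fin 3 → Spor.HN := fun t =>
    nf W A B C₁ D 0 (u * (t.1 : ℕ)) 0 (-(i * (t.1 : ℕ))) (t.2.1 : ℕ) * x ^ (t.2.2 : ℕ)
  have h1 : ∀ g : ↥(P ⊓ centralizer ({x} : Set Spor.HN)), (g : Spor.HN) ∈ Set.range f := by
    rintro ⟨g, hgP, hgC⟩
    obtain ⟨t, r, a, b, c, d, ht, ⟨e, hr⟩, hg⟩ := mem_P hgP
    obtain ⟨q', hq', hxt⟩ := pow_form (ext.nf_mem i j u l m) t
    rw [← hx] at hxt
    have hrQ : r ∈ ext.Q := by rw [hr]; exact ext.nf_mem _ _ _ _ _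
    have hQ : g * (x ^ t)⁻¹ ∈ ext.Q := by
      have h2 : g * (x ^ t)⁻¹ = r * q'⁻¹ := by rw [hxt, hg]; group
      rw [h2]
      exact mul_mem hrQ (inv_mem hq')
    have hgx : g * x = x * g := mem_centralizer_singleton_iff.1 hgC
    have hcomm : g * (x ^ t)⁻¹ * x = x * (g * (x ^ t)⁻¹) := by
      have h2 : Commute (x ^ t)⁻¹ x := ((Commute.refl x).pow_left t).inv_left
      rw [mul_assoc, h2.eq, ← mul_assoc, hgx, mul_assoc]
    obtain ⟨k, e', hke⟩ := cent_QF hiu hQ hcomm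
    refine ⟨(k, e', ⟨t, ht⟩), ?_⟩
    change nf W A B C₁ D 0 (u * (k : ℕ)) 0 (-(i * (k : ℕ))) (e' : ℕ) * x ^ t = g
    rw [← hke, inv_mul_cancel_right]
  have h2 : (↑(P ⊓ centralizer ({x} : Set Spor.HN)) : Set Spor.HN) ⊆ Set.range f := fun g hg => h1 ⟨g, hg⟩
  have h3 : Nat.card ↥(P ⊓ centralizer ({x} : Set Spor.HN)) ≤ Nat.card (Set.range f) :=
    Nat.card_mono (Set.finite_range f) h2
  refine h3.trans ?_
  refine (Nat.card_le_card_of_surjective (Set.rangeFactorization f) Set.rangeFactorization_surjective).trans ?_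
  simp only [Nat.card_prod, Nat.card_fin]
  norm_num

theorem cent_nine_P {x : Spor.HN} (hx : x ∈ P) (h9 : orderOf x = 3 ^ 2) :
    Nat.card ↥(P ⊓ centralizer ({x} : Set Spor.HN)) < 3 ^ 4 := by
  obtain ⟨s, q, i, j, u, l, hs, ⟨m, rfl⟩, rfl⟩ := mem_P hx
  have h3 : s = 0 ∨ s = 1 ∨ s = 2 := by omega
  rcases h3 with rfl | rfl | rfl
  · exfalso
    rw [pow_zero, mul_one] at h9
    have h2 := orderOf_dvd_of_pow_eq_one (ext.pow_eq_one (by decide) _ (ext.nf_mem i j u l m))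
    rw [h9] at h2
    norm_num at h2
  · rw [pow_one] at h9 ⊢
    exact (card_cent_QF (by rw [h9]; norm_num)).trans_lt (by norm_num)
  · -- the inverse
    set x := nf W A B C₁ D i j u l m * F ^ 2 with hxd
    obtain ⟨i', j', u', l', m', h4⟩ := F_Q _ (inv_mem (ext.nf_mem i j u l m))
    have h5 : x⁻¹ = nf W A B C₁ D i' j' u' l' m' * F := by
      rw [← h4, hxd, mul_inv_rev]
      have h6 : (F ^ 2)⁻¹ = F := by
        rw [inv_eq_iff_mul_eq_one, ← pow_succ, e_f3]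
      rw [h6]; group
    have h6 : centralizer ({x} : Set Spor.HN) = centralizer ({x⁻¹} : Set Spor.HN) := by
      ext g
      rw [mem_centralizer_singleton_iff, mem_centralizer_singleton_iff]
      constructor
      · intro h; exact (show Commute g x from h).inv_right.eq
      · intro h
        have := (show Commute g x⁻¹ from h).inv_right.eq
        rwa [inv_inv] at this
    rw [h6, h5]
    refine (card_cent_QF ?_).trans_lt (by norm_num)
    rw [← h5, orderOf_inv, h9]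
    norm_num

/-- **elements of order 9**: `81 ∤ |C(x)|` -/
theorem not_dvd_cent_nine {x : Spor.HN} (hx : orderOf x = 3 ^ 2) :
    ¬ 3 ^ 4 ∣ Nat.card (centralizer ({x} : Set Spor.HN)) :=
  not_pow_dvd_cent isPGroup_P index_P (fun _ h h' => cent_nine_P h h') hx

end Cfsg.Agent.H604.OZ.HN
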