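import Cfsg.Agent.H604.OZ.HNKillOf
import Cfsg.Agent.H285.HN.Eight
import Cfsg.Agent.H714.HN.P4
import Cfsg.Agent.H672.OZ.HN

/-!
# One vanishing class: the row `HN` of S4842 (helper604, with helper285 (8B), helper672 (sieve), helper714 (2-elements))
-/

set_option autoImplicit false

open Cfsg Cfsg.Agent.H732.VZ

namespace Cfsg.Agent.H604.OZ.HN

universe u

theorem p4 : P4 := fun _ ⟨n, hn⟩ => Cfsg.Agent.H714.HN.p4_all ⟨n, by rw [← hn, pow_orderOf_eq_one]⟩

/-- no degree divisible by 6 -/
theorem not_six {χ : IrrCharacter Spor.HN} {x : Spor.HN} (h : One χ x) : ¬ 6 ∣ charDegree (χ : Spor.HN → ℂ) :=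
  not_six_of Cfsg.Agent.H285.HNEight.p3' p4 h

theorem row_hn' : H730.OZ.Row Spor.HN := by
  refine row_of fun χ x h => ?_
  have hm := H672.OZ.hn_deg h
  have h1 := not_six h
  have h2 := fun hd => not_two10 h hd
  simp only [List.mem_cons, List.not_mem_nil, or_false] at hm
  rcases hm with e | e | e | e | e | e | e | e | e <;> rw [e] at h1 h2 <;>
    first
      | exact h1 (by decide)
      | exact absurd (h2 (by decide)) (by norm_num)

/-- **`HN`.** -/
theorem row_hn {S : Type u} [Group S] [Finite S] (_hs : IsSimpleGroup S) (h : Spor.IsoHN S) : H730.OZ.Row S := by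
  obtain ⟨e⟩ := h
  exact H730.OZ.Row.congr e row_hn'

end Cfsg.Agent.H604.OZ.HN
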